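import Mathlib
import Groth.Prelude.Def_Pi1
import Groth.Agent.Lib.Helper1.EtStalk

/-!
# The scheme-theoretic image of a section of an étale morphism to a normal base, and aligned
pointed schemes (helper8; S13424)
-/

set_option autoImplicit false
set_option linter.style.haveILetI false
universe u
open CategoryTheory CategoryTheory.Limits AlgebraicGeometry TopologicalSpace Opposite

namespace Groth.Agent.H8.Aligned

/-- In a Noetherian ring whose localization at `p` is a domain, a non-vanishing germ has an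
annihilator killed by an element outside `p`. -/
theorem exists_unit_mul_annihilator {A : Type u} [CommRing A] [IsNoetherianRing A] (p : Ideal A)
    [p.IsPrime] (L : Type u) [CommRing L] [Algebra A L] [IsLocalization.AtPrime L p] [IsDomain L]
    (a : A) (ha : algebraMap A L a ≠ 0) :
    ∃ s : A, IsUnit (algebraMap A L s) ∧ ∀ t : A, t * a = 0 → s * t = 0 := by
  let J : Ideal A := (Ideal.span {a}).annihilator
  have hJ : ∀ t : A, t ∈ J ↔ t * a = 0 := fun t => by
    simp only [J]
    rw [Submodule.mem_annihilator_span_singleton, smul_eq_mul]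
  have h1 : ∀ b ∈ J, ∃ m : A, m ∉ p ∧ m * b = 0 := by
    intro b hb
    have hb0 : algebraMap A L b = 0 := by
      have h : algebraMap A L b * algebraMap A L a = 0 := by
        rw [← map_mul, (hJ b).mp hb, map_zero]
      exact (mul_eq_zero.mp h).resolve_right ha
    obtain ⟨m, hm⟩ := (IsLocalization.map_eq_zero_iff p.primeCompl L b).mp hb0
    exact ⟨m.1, m.2, hm⟩
  obtain ⟨T, hT⟩ := (IsNoetherian.noetherian J : J.FG)
  choose! c hc using h1
  have hTJ : ∀ b ∈ T, b ∈ J := fun b hb => hT ▸ Submodule.subset_span hb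
  refine ⟨∏ b ∈ T, c b, ?_, ?_⟩
  · rw [IsLocalization.AtPrime.isUnit_to_map_iff L p]
    intro hmem
    obtain ⟨b, hbT, hbp⟩ := (Ideal.IsPrime.prod_mem_iff).mp hmem
    exact (hc b (hTJ b hbT)).1 hbp
  · have key : ∀ x ∈ Submodule.span A (T : Set A), (∏ b ∈ T, c b) * x = 0 := by
      intro x hx
      induction hx using Submodule.span_induction with
      | mem b hb =>
        obtain ⟨d, hd⟩ := Finset.dvd_prod_of_mem c hb
        rw [hd, mul_comm (c b) d, mul_assoc, (hc b (hTJ b hb)).2, mul_zero]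
      | zero => rw [mul_zero]
      | add x y _ _ hx hy => rw [mul_add, hx, hy, add_zero]
      | smul r x _ hx => rw [smul_eq_mul, mul_left_comm, hx, mul_zero]
    intro t ht
    exact key t (by rw [hT]; exact (hJ t).mpr ht)

theorem false_of_map_eq_zero {A : Type u} [CommRing A] (M : Submonoid A) (L : Type u)
    [CommRing L] [Algebra A L] [IsLocalization M L] [Nontrivial L] (a s : A)
    (h0 : algebraMap A L a = 0) (hs : IsUnit (algebraMap A L s))
    (h : ∀ t : A, t * a = 0 → s * t = 0) : False := by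
  obtain ⟨t, ht⟩ := (IsLocalization.map_eq_zero_iff M L a).mp h0
  have h1 : algebraMap A L s * algebraMap A L (t : A) = 0 := by
    rw [← map_mul, h _ ht, map_zero]
  have h2 : IsUnit (algebraMap A L s * algebraMap A L (t : A)) :=
    hs.mul (IsLocalization.map_units L t)
  rw [h1] at h2
  exact not_isUnit_zero h2

/-- The scheme-theoretic image of an open immersion into a locally Noetherian scheme all of whose
local rings are domains is an open subscheme. -/
theorem isOpenImmersion_imageι {S E : Scheme.{u}} [IsLocallyNoetherian E]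
    (hdom : ∀ z : E, IsDomain (E.presheaf.stalk z)) (σ : S ⟶ E) [IsOpenImmersion σ] :
    IsOpenImmersion σ.imageι := by
  haveI : QuasiCompact σ := inferInstance
  have hinj : ∀ z : σ.image, Function.Injective (σ.imageι.stalkMap z) := by
    intro z
    rw [injective_iff_map_eq_zero]
    intro α hα
    obtain ⟨V₀, hxV₀, a₀, rfl⟩ := TopCat.Presheaf.exists_germ_eq E.presheaf α
    rw [Scheme.Hom.germ_stalkMap_apply] at hα
    have h0 : σ.image.presheaf.germ (σ.imageι ⁻¹ᵁ V₀) z hxV₀ (σ.imageι.app V₀ a₀) =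
        σ.image.presheaf.germ (σ.imageι ⁻¹ᵁ V₀) z hxV₀ 0 := by rw [hα, map_zero]
    obtain ⟨U', hzU', iU, iV, hres⟩ := TopCat.Presheaf.germ_eq _ z hxV₀ hxV₀ _ _ h0
    rw [map_zero] at hres
    obtain ⟨t, ht, htU⟩ := σ.imageι.isEmbedding.isInducing.isOpen_iff.mp U'.isOpen
    let V₁ : E.Opens := ⟨t, ht⟩
    have hxV₁ : σ.imageι z ∈ V₁ := by
      change z ∈ σ.imageι ⁻¹' t
      rw [htU]; exact hzU'
    obtain ⟨V, hV, hxV, hVle⟩ := exists_isAffineOpen_mem_and_subset (x := σ.imageι z)
      (U := V₀ ⊓ V₁) ⟨hxV₀, hxV₁⟩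
    have hVV₀ : V ≤ V₀ := fun y hy => (hVle hy).1
    have hVU' : σ.imageι ⁻¹ᵁ V ≤ U' := by
      intro y hy
      have : y ∈ σ.imageι ⁻¹' t := (hVle hy).2
      rw [htU] at this; exact this
    obtain ⟨a, ha⟩ : ∃ a, a = E.presheaf.map (homOfLE hVV₀).op a₀ := ⟨_, rfl⟩
    have hia : σ.imageι.app V a = 0 := by
      have hnat := σ.imageι.naturality (homOfLE hVV₀).op
      have h1 : σ.imageι.app V a = σ.image.presheaf.map
          ((Opens.map σ.imageι.base).op.map (homOfLE hVV₀).op) (σ.imageι.app V₀ a₀) := by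
        rw [ha]; exact congr($hnat a₀)
      have h2 : (Opens.map σ.imageι.base).op.map (homOfLE hVV₀).op =
          iU.op ≫ (homOfLE hVU').op := Subsingleton.elim _ _
      rw [h1, h2, Functor.map_comp, CommRingCat.comp_apply, hres, map_zero]
    have hσa : σ.app V a = 0 := by
      have hmem : a ∈ RingHom.ker (σ.imageι.app V).hom := hia
      rw [Scheme.IdealSheafData.ker_subschemeι_app σ.ker ⟨V, hV⟩, Scheme.Hom.ker_apply] at hmem
      exact hmem
    have hgerm : E.presheaf.germ V₀ (σ.imageι z) hxV₀ a₀ = E.presheaf.germ V (σ.imageι z) hxV a := by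
      rw [ha, TopCat.Presheaf.germ_res_apply]
    rw [hgerm]
    by_contra hne
    haveI : IsNoetherianRing Γ(E, V) := IsLocallyNoetherian.component_noetherian ⟨V, hV⟩
    letI : Algebra Γ(E, V) (E.presheaf.stalk (σ.imageι z)) :=
      TopCat.Presheaf.algebra_section_stalk E.presheaf ⟨σ.imageι z, hxV⟩
    haveI := hV.isLocalization_stalk ⟨σ.imageι z, hxV⟩
    haveI := hdom (σ.imageι z)
    obtain ⟨s, hs, hst⟩ := exists_unit_mul_annihilator (hV.primeIdealOf ⟨σ.imageι z, hxV⟩).asIdeal
      (E.presheaf.stalk (σ.imageι z)) a hne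
    have hxs : σ.imageι z ∈ E.basicOpen s := (Scheme.mem_basicOpen E s _ hxV).mpr hs
    have hcl : σ.imageι z ∈ closure (Set.range σ) := by
      rw [← Scheme.Hom.support_ker, ← Scheme.IdealSheafData.range_subschemeι]
      exact ⟨z, rfl⟩
    obtain ⟨_, hys, ⟨t₀, rfl⟩⟩ := mem_closure_iff.mp hcl _ (E.basicOpen s).isOpen hxs
    have hyV : σ t₀ ∈ V := E.basicOpen_le s hys
    have hg0 : E.presheaf.germ V (σ t₀) hyV a = 0 := by
      have hbij : Function.Bijective (σ.stalkMap t₀) := ConcreteCategory.bijective_of_isIso _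
      apply hbij.1
      rw [Scheme.Hom.germ_stalkMap_apply, hσa, map_zero, map_zero]
    letI : Algebra Γ(E, V) (E.presheaf.stalk (σ t₀)) :=
      TopCat.Presheaf.algebra_section_stalk E.presheaf ⟨σ t₀, hyV⟩
    haveI := hV.isLocalization_stalk ⟨σ t₀, hyV⟩
    exact false_of_map_eq_zero (hV.primeIdealOf ⟨σ t₀, hyV⟩).asIdeal.primeCompl
      (E.presheaf.stalk (σ t₀)) a s hg0 ((Scheme.mem_basicOpen E s _ hyV).mp hys) hst
  haveI : Flat σ.imageι := Flat.of_stalkMap σ.imageι fun z =>
    RingHom.Flat.of_bijective ⟨hinj z, σ.imageι.stalkMap_surjective z⟩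
  haveI : LocallyOfFiniteType σ.imageι := inferInstance
  haveI : LocallyOfFinitePresentation σ.imageι := inferInstance
  exact IsOpenImmersion.of_flat_of_mono σ.imageι

theorem main {S : Scheme.{u}} [IsLocallyNoetherian S] (hS : Pi1.IsNormalScheme S)
    {G H : Scheme.{u}} (p : G ⟶ S) (q : H ⟶ S)
    (eG : S ⟶ G) (eH : S ⟶ H) (heG : eG ≫ p = 𝟙 S)
    (f : G ⟶ H) [Etale f] (hf : f ≫ q = p) (hfe : eG ≫ f = eH)
    (hH : Etale (eH.ker.subschemeι ≫ q)) :
    Etale (eG.ker.subschemeι ≫ p) := by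
  haveI : Etale (eH.imageι ≫ q) := hH
  have hr : pullback.fst f eH.imageι ≫ p = pullback.snd f eH.imageι ≫ (eH.imageι ≫ q) := by
    rw [← hf, ← Category.assoc, pullback.condition, Category.assoc]
  haveI : Etale (pullback.fst f eH.imageι ≫ p) := by rw [hr]; infer_instance
  obtain ⟨σ, hσ1⟩ : ∃ σ : S ⟶ pullback f eH.imageι, σ ≫ pullback.fst f eH.imageι = eG :=
    ⟨pullback.lift eG eH.toImage (by rw [hfe]; exact eH.toImage_imageι.symm),
      pullback.lift_fst _ _ _⟩
  have hσr : σ ≫ (pullback.fst f eH.imageι ≫ p) = 𝟙 S := by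
    rw [← Category.assoc, hσ1, heG]
  haveI : Mono σ := mono_of_mono_fac hσr
  haveI : Etale σ := MorphismProperty.of_postcomp (W := @Etale) (W' := @Etale) σ
    (pullback.fst f eH.imageι ≫ p) inferInstance (by rw [hσr]; infer_instance)
  haveI : IsOpenImmersion σ := IsOpenImmersion.of_flat_of_mono σ
  haveI : IsLocallyNoetherian (pullback f eH.imageι) :=
    LocallyOfFiniteType.isLocallyNoetherian (pullback.fst f eH.imageι ≫ p)
  have hdom : ∀ z : ↥(pullback f eH.imageι),
      IsDomain ((pullback f eH.imageι).presheaf.stalk z) := by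
    intro z
    haveI := (hS ((pullback.fst f eH.imageι ≫ p) z)).1
    haveI := (hS ((pullback.fst f eH.imageι ≫ p) z)).2
    exact (Groth.Agent.H1.EtStalk.normal_stalk_of_etale (pullback.fst f eH.imageι ≫ p) z).1
  haveI hopen : IsOpenImmersion σ.imageι := isOpenImmersion_imageι hdom σ
  -- comparison of the two images
  have h1 : (pullback.fst f eH.imageι).ker ≤ eG.imageι.ker := by
    rw [Scheme.IdealSheafData.ker_subschemeι, ← hσ1]
    exact σ.le_ker_comp _
  obtain ⟨ℓ, hℓ⟩ : ∃ ℓ : eG.image ⟶ pullback f eH.imageι,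
      ℓ ≫ pullback.fst f eH.imageι = eG.imageι :=
    ⟨IsClosedImmersion.lift _ _ h1, IsClosedImmersion.lift_fac _ _ _⟩
  haveI : IsClosedImmersion (ℓ ≫ pullback.fst f eH.imageι) := by rw [hℓ]; infer_instance
  haveI : IsClosedImmersion ℓ :=
    IsClosedImmersion.of_comp_isClosedImmersion ℓ (pullback.fst f eH.imageι)
  have hσℓ : σ = eG.toImage ≫ ℓ := by
    rw [← cancel_mono (pullback.fst f eH.imageι), Category.assoc, hℓ, hσ1, eG.toImage_imageι]
  have h2 : ℓ.ker ≤ σ.imageι.ker := by
    rw [Scheme.IdealSheafData.ker_subschemeι, hσℓ]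
    exact eG.toImage.le_ker_comp ℓ
  obtain ⟨m, hm⟩ : ∃ m : σ.image ⟶ eG.image, m ≫ ℓ = σ.imageι :=
    ⟨IsClosedImmersion.lift _ _ h2, IsClosedImmersion.lift_fac _ _ _⟩
  have hmG : m ≫ eG.imageι = σ.imageι ≫ pullback.fst f eH.imageι := by
    rw [← hℓ, ← Category.assoc, hm]
  have hker : (σ.imageι ≫ pullback.fst f eH.imageι).ker = eG.imageι.ker := by
    apply le_antisymm
    · rw [Scheme.IdealSheafData.ker_subschemeι]
      have h3 : σ.toImage ≫ (σ.imageι ≫ pullback.fst f eH.imageι) = eG := by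
        rw [← Category.assoc, σ.toImage_imageι, hσ1]
      rw [← h3]
      exact σ.toImage.le_ker_comp _
    · rw [← hmG]
      exact m.le_ker_comp _
  haveI : IsIso m := IsClosedImmersion.isIso_of_ker_eq
    (σ.imageι ≫ pullback.fst f eH.imageι) eG.imageι m hmG hker
  have hfin : eG.ker.subschemeι ≫ p = inv m ≫ σ.imageι ≫ (pullback.fst f eH.imageι ≫ p) := by
    rw [IsIso.eq_inv_comp, ← Category.assoc, hmG, Category.assoc]
  rw [hfin]
  infer_instance

end Groth.Agent.H8.Aligned
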